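import Cfsg.Agent.Lib.Blocks.SylowEighteen.Numbers
import Cfsg.Agent.Lib.Blocks.SmallCofactor.Main
import Cfsg.Agent.Lib.Blocks.FourTimes.Final
import Cfsg.Agent.S1020

/-!
# Groups acting faithfully on their eighteen Sylow 17-subgroups
-/

set_option autoImplicit false
set_option linter.unusedSectionVars false

namespace Cfsg.Agent.Blocks.Eighteen

open Subgroup

universe u

instance fact17 : Fact (Nat.Prime 17) := ⟨by norm_num⟩

/-- The hypotheses on the action. -/
structure Act (H : Type u) (α : Type*) [Group H] [MulAction H α] : Prop where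
  card : Nat.card α = 18
  faithful : ∀ g : H, (∀ a : α, g • a = a) → g = 1
  pts : ∀ a : α, ∃ x : H, orderOf x = 17 ∧ x • a = a ∧ ∀ b : α, x • b = b → b = a
  few : Nat.card (Sylow 17 H) ≤ 18

namespace Act

variable {H : Type u} {α : Type*} [Group H] [Finite H] [Finite α] [MulAction H α] (A : Act H α)

include A

theorem card_dvd : Nat.card H ∣ (18).factorial := by
  haveI : FaithfulSMul H α := ⟨fun {g h} e => inv_mul_eq_one.mp (A.faithful (g⁻¹ * h) fun a => by
    rw [mul_smul, ← e a, inv_smul_smul])⟩
  have h := Subgroup.card_dvd_of_injective (MulAction.toPermHom H α) MulAction.toPerm_injective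
  rwa [Nat.card_perm, A.card] at h

theorem nonempty : Nonempty α := by
  by_contra h
  rw [not_nonempty_iff] at h
  have := A.card
  rw [Nat.card_of_isEmpty] at this
  norm_num at this

theorem factorization : (Nat.card H).factorization 17 = 1 := by
  obtain ⟨a⟩ := A.nonempty
  obtain ⟨x, hx, -, -⟩ := A.pts a
  have h1 : 17 ∣ Nat.card H := hx ▸ orderOf_dvd_natCard x
  have h2 := (Fact.out : Nat.Prime 17).factorization_pos_of_dvd Nat.card_pos.ne' h1
  have h3 : ¬ 17 ^ 2 ∣ Nat.card H := fun h => by
    have := h.trans A.card_dvd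
    norm_num [Nat.factorial] at this
  have h4 : ¬ 2 ≤ (Nat.card H).factorization 17 := fun h => h3
    (((Fact.out : Nat.Prime 17).pow_dvd_iff_le_factorization Nat.card_pos.ne').mpr h)
  omega

theorem sylow_card (S : Sylow 17 H) : Nat.card S = 17 := by
  rw [S.card_eq_multiplicity, A.factorization, pow_one]

theorem sylow_eq {x : H} (hx : orderOf x = 17) (S : Sylow 17 H) (hxS : x ∈ (S : Subgroup H)) :
    (S : Subgroup H) = zpowers x :=
  (Subgroup.eq_of_le_of_card_ge (zpowers_le.mpr hxS) (by
    rw [Nat.card_zpowers, hx]; exact (A.sylow_card S).le)).symm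

/-- The other points form one orbit. -/
theorem orbit {x : H} (hx : orderOf x = 17) {a : α} (hxa : x • a = a)
    (hfix : ∀ b : α, x • b = b → b = a) {b c : α} (hb : b ≠ a) (hc : c ≠ a) :
    ∃ k : ℕ, x ^ k • b = c := by
  classical
  haveI := Fintype.ofFinite α
  set f : Fin 17 → α := fun k => x ^ (k : ℕ) • b with hf
  have hne : ∀ k : Fin 17, f k ≠ a := fun k h => by
    have h' : x ^ (k : ℕ) • a = a :=
      (MulAction.stabilizer H a).pow_mem (MulAction.mem_stabilizer_iff.mpr hxa) _
    exact hb (smul_left_cancel (x ^ (k : ℕ)) (h.trans h'.symm))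
  have hinj : Function.Injective f := by
    intro i j hij
    by_contra hne'
    wlog hlt : (i : ℕ) < j generalizing i j
    · exact this hij.symm (Ne.symm hne') (lt_of_le_of_ne (not_lt.mp hlt) fun e => hne' (Fin.ext e.symm))
    have h1 : x ^ ((j : ℕ) - i) • b = b := by
      apply smul_left_cancel (x ^ (i : ℕ))
      rw [← mul_smul, ← pow_add, show (i : ℕ) + ((j : ℕ) - i) = j by omega]
      exact hij.symm
    have hcop : Nat.Coprime ((j : ℕ) - i) 17 :=
      ((Fact.out : Nat.Prime 17).coprime_iff_not_dvd.mpr fun h => by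
        have := Nat.le_of_dvd (by omega) h; omega).symm
    obtain ⟨m, hm⟩ := exists_pow_eq_self_of_coprime (x := x) (n := (j : ℕ) - i) (by rw [hx]; exact hcop)
    refine hb (hfix b ?_)
    have h2 : ∀ n : ℕ, (x ^ ((j : ℕ) - i)) ^ n • b = b := fun n => by
      induction n with
      | zero => rw [pow_zero, one_smul]
      | succ n ih => rw [pow_succ, mul_smul, h1, ih]
    have h3 := h2 m
    rwa [hm] at h3
  have himg : Finset.univ.image f = Finset.univ.erase a := by
    refine Finset.eq_of_subset_of_card_le (fun y hy => ?_) ?_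
    · obtain ⟨k, -, rfl⟩ := Finset.mem_image.mp hy
      exact Finset.mem_erase.mpr ⟨hne k, Finset.mem_univ _⟩
    · rw [Finset.card_erase_of_mem (Finset.mem_univ _), Finset.card_image_of_injective _ hinj,
        Finset.card_univ, Finset.card_univ, Fintype.card_fin, ← Nat.card_eq_fintype_card, A.card]
  have : c ∈ Finset.univ.image f := himg ▸ Finset.mem_erase.mpr ⟨hc, Finset.mem_univ _⟩
  obtain ⟨k, -, hk⟩ := Finset.mem_image.mp this
  exact ⟨k, hk⟩

theorem exists_two (a : α) : ∃ b : α, b ≠ a := by
  haveI := Fintype.ofFinite α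
  refine Fintype.exists_ne_of_one_lt_card ?_ a
  rw [← Nat.card_eq_fintype_card, A.card]; norm_num

theorem exists_three (a b : α) : ∃ c : α, c ≠ a ∧ c ≠ b := by
  classical
  haveI := Fintype.ofFinite α
  obtain ⟨c, -, hc⟩ := Finset.exists_mem_notMem_of_card_lt_card (s := {a, b})
    (t := (Finset.univ : Finset α)) (by
      rw [Finset.card_univ, ← Nat.card_eq_fintype_card, A.card]
      exact lt_of_le_of_lt Finset.card_le_two (by norm_num))
  simp only [Finset.mem_insert, Finset.mem_singleton, not_or] at hc
  exact ⟨c, hc.1, hc.2⟩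

theorem transitive (a b : α) : ∃ g : H, g • a = b := by
  obtain ⟨c, hca, hcb⟩ := A.exists_three a b
  obtain ⟨x, hx, hxc, hfix⟩ := A.pts c
  obtain ⟨k, hk⟩ := A.orbit hx hxc hfix hca.symm hcb.symm
  exact ⟨x ^ k, hk⟩

/-- Each element of order `17` is a generator of the subgroup attached to a point. -/
theorem mem_zpowers_of_fix {x y : H} (hx : orderOf x = 17) (hy : orderOf y = 17) {a : α}
    (hxa : x • a = a) (hfix : ∀ b : α, x • b = b → b = a) (hya : y • a = a) : y ∈ zpowers x := by
  classical
  choose g hg hga hgfix using A.pts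
  have hp : ∀ z : H, orderOf z = 17 → IsPGroup 17 (zpowers z) := fun z hz =>
    IsPGroup.of_card (n := 1) (by rw [Nat.card_zpowers, hz, pow_one])
  choose S hS using fun b : α => (hp _ (hg b)).exists_le_sylow
  have hS' : ∀ b, (S b : Subgroup H) = zpowers (g b) := fun b =>
    A.sylow_eq (hg b) (S b) (hS b (mem_zpowers _))
  have hinj : Function.Injective S := by
    intro b c h
    have hb : g b ∈ zpowers (g c) := by rw [← hS' c, ← h, hS' b]; exact mem_zpowers _
    refine (hgfix b c ?_).symm
    obtain ⟨k, hk⟩ := hb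
    rw [← hk]
    exact (MulAction.stabilizer H c).zpow_mem (MulAction.mem_stabilizer_iff.mpr (hga c)) _
  haveI := Fintype.ofFinite α
  haveI := Fintype.ofFinite (Sylow 17 H)
  have hbij : Function.Bijective S := (Fintype.bijective_iff_injective_and_card S).mpr ⟨hinj, by
    rw [← Nat.card_eq_fintype_card, ← Nat.card_eq_fintype_card, A.card]
    exact le_antisymm (A.card ▸ Nat.card_le_card_of_injective S hinj) A.few⟩
  have key : ∀ z : H, orderOf z = 17 → z • a = a → zpowers z = zpowers (g a) := by
    intro z hz hza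
    obtain ⟨T, hT⟩ := (hp z hz).exists_le_sylow
    obtain ⟨b, rfl⟩ := hbij.2 T
    have h1 := A.sylow_eq hz (S b) (hT (mem_zpowers _))
    have h2 : g b ∈ zpowers z := by rw [← h1, hS' b]; exact mem_zpowers _
    have hb : a = b := by
      refine hgfix b a ?_
      obtain ⟨k, hk⟩ := h2
      rw [← hk]
      exact (MulAction.stabilizer H a).zpow_mem (MulAction.mem_stabilizer_iff.mpr hza) _
    rw [← h1, hS', hb]
  rw [key x hx hxa, ← key y hy hya]
  exact mem_zpowers y

end Act

end Cfsg.Agent.Blocks.Eighteen
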