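import Mathlib

/-!
# Sylow numbers of subgroups and quotients
-/

set_option autoImplicit false
set_option linter.unusedSectionVars false

namespace Cfsg.Agent.Blocks.Eighteen

open Subgroup

variable {G : Type*} [Group G] [Finite G] {r : ℕ} [hr : Fact r.Prime]

theorem card_sylow_subgroup_le (N : Subgroup G) : Nat.card (Sylow r N) ≤ Nat.card (Sylow r G) := by
  choose f hf using fun T : Sylow r N => (T.isPGroup'.map N.subtype).exists_le_sylow
  refine Nat.card_le_card_of_injective f fun T T' h => ?_
  have hT : ∀ T : Sylow r N, (T : Subgroup N) = (f T : Subgroup G).comap N.subtype := by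
    intro T
    refine (T.3 ?_ (Subgroup.map_le_iff_le_comap.mp (hf T))).symm
    exact (f T).2.comap_of_injective N.subtype N.subtype_injective
  exact Sylow.ext (by rw [hT T, hT T', h])

theorem card_sylow_map {G' : Type*} [Group G'] {f : G →* G'} (hf : Function.Surjective f) :
    Nat.card (Sylow r G') ≤ Nat.card (Sylow r G) :=
  Nat.card_le_card_of_surjective _ (Sylow.mapSurjective_surjective hf r)

/-- Two Sylow subgroups with the same image, one of them normalised by the kernel. -/
theorem eq_of_map_eq {G' : Type*} [Group G'] {f : G →* G'} (P Q : Sylow r G)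
    (hk : f.ker ≤ normalizer ((P : Subgroup G) : Set G))
    (h : (P : Subgroup G).map f = (Q : Subgroup G).map f) : P = Q := by
  have hQ : (Q : Subgroup G) ≤ normalizer ((P : Subgroup G) : Set G) := by
    refine le_trans ?_ (sup_le le_normalizer hk)
    rw [← comap_map_eq, h]
    exact le_comap_map f _
  have hpg : IsPGroup r ((P ⊔ Q : Subgroup G)) :=
    P.2.to_sup_of_normal_left' Q.2 hQ
  have h1 : (P ⊔ Q : Subgroup G) = P := P.3 hpg le_sup_left
  exact Sylow.ext (Q.3 P.2 (le_sup_right.trans h1.le))

theorem card_sylow_of_central {G' : Type*} [Group G'] {f : G →* G'} (hf : Function.Surjective f)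
    (hk : f.ker ≤ center G) : Nat.card (Sylow r G') = Nat.card (Sylow r G) :=
  (Nat.card_eq_of_bijective _ ⟨fun P Q h => eq_of_map_eq P Q
    (hk.trans (center_le_normalizer _))
    (congrArg (fun S : Sylow r G' => (S : Subgroup G')) h),
    Sylow.mapSurjective_surjective hf r⟩).symm

/-- If the quotient has as many Sylow subgroups, the kernel normalises each of them. -/
theorem ker_le_normalizer {G' : Type*} [Group G'] {f : G →* G'} (hf : Function.Surjective f)
    (hle : Nat.card (Sylow r G) ≤ Nat.card (Sylow r G')) (S : Sylow r G) :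
    f.ker ≤ normalizer ((S : Subgroup G) : Set G) := by
  have hinj : Function.Injective (Sylow.mapSurjective hf : Sylow r G → Sylow r G') := by
    haveI : Finite G' := Finite.of_surjective f hf
    haveI := Fintype.ofFinite (Sylow r G)
    haveI := Fintype.ofFinite (Sylow r G')
    refine ((Fintype.bijective_iff_surjective_and_card _).mpr
      ⟨Sylow.mapSurjective_surjective hf r, ?_⟩).1
    rw [← Nat.card_eq_fintype_card, ← Nat.card_eq_fintype_card]
    exact le_antisymm hle (card_sylow_map hf)
  intro k hk
  refine Sylow.smul_eq_iff_mem_normalizer.mp ?_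
  refine hinj (Sylow.ext ?_)
  rw [Sylow.coe_mapSurjective, Sylow.coe_mapSurjective, Sylow.coe_subgroup_smul]
  ext y
  simp only [mem_map, Subgroup.mem_pointwise_smul_iff_inv_smul_mem, MulAut.smul_def]
  constructor
  · rintro ⟨x, hx, rfl⟩
    exact ⟨_, hx, by simp [MonoidHom.mem_ker.mp hk]⟩
  · rintro ⟨x, hx, rfl⟩
    exact ⟨k * x * k⁻¹, by simpa [mul_assoc] using hx, by simp [MonoidHom.mem_ker.mp hk]⟩

end Cfsg.Agent.Blocks.Eighteen
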