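import Cfsg.Agent.Lib.Blocks.SylowEighteen.Structure
import Cfsg.Agent.S0730

/-!
# Groups with Sylow numbers `{18, 136, 153}`
-/

set_option autoImplicit false
set_option linter.unusedSectionVars false

namespace Cfsg.Agent.Blocks.Eighteen

open Subgroup

universe u

variable {G : Type u} [Group G] [Finite G]

theorem exists_central {P : Type*} [Group P] [Finite P] {r : ℕ} [Fact r.Prime] (hP : IsPGroup r P)
    (N : Subgroup P) [N.Normal] (hN : N ≠ ⊥) : ∃ w, w ∈ N ⊓ center P ∧ w ≠ 1 := by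
  have hP' : IsPGroup r (ConjAct P) := hP.of_equiv ConjAct.toConjAct
  haveI : Nontrivial N := (N.nontrivial_iff_ne_bot).mpr hN
  obtain ⟨j, hj⟩ := IsPGroup.iff_card.mp (hP.to_subgroup N)
  have hd : r ∣ Nat.card N := by
    rw [hj]
    refine dvd_pow_self r fun h0 => ?_
    have := Finite.one_lt_card (α := N)
    rw [hj, h0, pow_zero] at this
    omega
  obtain ⟨w, hw, hne⟩ := hP'.exists_fixed_point_of_prime_dvd_card_of_fixed_point (α := N) hd
    (a := 1) (fun g => Subtype.ext (by simp [ConjAct.Subgroup.val_conj_smul]))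
  refine ⟨w, Subgroup.mem_inf.mpr ⟨w.2, Subgroup.mem_center_iff.mpr fun g => ?_⟩,
    fun e => hne (Subtype.ext e.symm)⟩
  have h1 : g * (w : P) * g⁻¹ = w := by
    have := congrArg Subtype.val (hw (ConjAct.toConjAct g))
    simpa [ConjAct.Subgroup.val_conj_smul, ConjAct.toConjAct_smul] using this
  exact mul_inv_eq_iff_eq_mul.mp h1

/-- The hypothesis on the Sylow numbers. -/
def Numbers (G : Type u) [Group G] : Prop :=
  {c : ℕ | ∃ r : ℕ, r.Prime ∧ r ∣ Nat.card G ∧ c = Nat.card (Sylow r G)} = ({18, 136, 153} : Set ℕ)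

theorem prime_cases (h : Numbers G) {r : ℕ} [hr : Fact r.Prime] (hd : r ∣ Nat.card G) :
    (r = 17 ∧ Nat.card (Sylow r G) = 18) ∨ ((r = 3 ∨ r = 5) ∧ Nat.card (Sylow r G) = 136) ∨
      ((r = 2 ∨ r = 19) ∧ Nat.card (Sylow r G) = 153) := by
  have hmem : Nat.card (Sylow r G) ∈ ({18, 136, 153} : Set ℕ) := h ▸ ⟨r, hr.out, hd, rfl⟩
  simp only [Set.mem_insert_iff, Set.mem_singleton_iff] at hmem
  have hmod := card_sylow_modEq_one r G
  have h2 := hr.out.two_le
  rcases hmem with e | e | e <;> rw [e] at hmod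
  · have hdvd : r ∣ 17 := (Nat.modEq_iff_dvd' (by norm_num)).mp hmod.symm
    exact Or.inl ⟨(Nat.prime_dvd_prime_iff_eq hr.out (by norm_num)).mp hdvd, e⟩
  · have hdvd : r ∣ 3 ^ 3 * 5 := (Nat.modEq_iff_dvd' (by norm_num)).mp hmod.symm
    rcases hr.out.dvd_mul.mp hdvd with h' | h'
    · exact Or.inr (Or.inl ⟨Or.inl ((Nat.prime_dvd_prime_iff_eq hr.out Nat.prime_three).mp
        (hr.out.dvd_of_dvd_pow h')), e⟩)
    · exact Or.inr (Or.inl ⟨Or.inr ((Nat.prime_dvd_prime_iff_eq hr.out (by norm_num)).mp h'), e⟩)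
  · have hdvd : r ∣ 2 ^ 3 * 19 := (Nat.modEq_iff_dvd' (by norm_num)).mp hmod.symm
    rcases hr.out.dvd_mul.mp hdvd with h' | h'
    · exact Or.inr (Or.inr ⟨Or.inl ((Nat.prime_dvd_prime_iff_eq hr.out Nat.prime_two).mp
        (hr.out.dvd_of_dvd_pow h')), e⟩)
    · exact Or.inr (Or.inr ⟨Or.inr ((Nat.prime_dvd_prime_iff_eq hr.out (by norm_num)).mp h'), e⟩)

theorem seventeen (h : Numbers G) : 17 ∣ Nat.card G ∧ Nat.card (Sylow 17 G) = 18 := by
  have h18 : (18 : ℕ) ∈ {c : ℕ | ∃ r : ℕ, r.Prime ∧ r ∣ Nat.card G ∧ c = Nat.card (Sylow r G)} := by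
    rw [h]; simp
  obtain ⟨r, hr, hd, he⟩ := h18
  haveI := Fact.mk hr
  rcases prime_cases h hd with ⟨rfl, e⟩ | ⟨-, e⟩ | ⟨-, e⟩
  · exact ⟨hd, e⟩
  all_goals omega

/-- The action on the Sylow subgroups. -/
noncomputable abbrev hom (G : Type u) [Group G] : G →* Equiv.Perm (Sylow 17 G) :=
  MulAction.toPermHom G (Sylow 17 G)

theorem act (h : Numbers G) : Act (hom G).range (Sylow 17 G) where
  card := (seventeen h).2
  faithful g hg := Subtype.ext (Equiv.ext fun a => hg a)
  few := (card_sylow_map (hom G).rangeRestrict_surjective).trans (seventeen h).2.le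
  pts P := by
    have hne : ∀ Q : Sylow 17 G,
        (P : Subgroup G) ≤ normalizer ((Q : Subgroup G) : Set G) → Q = P := by
      intro Q hle
      have hpg : IsPGroup 17 ((Q ⊔ P : Subgroup G)) := Q.2.to_sup_of_normal_left' P.2 hle
      have h1 : (Q ⊔ P : Subgroup G) = P := P.3 hpg le_sup_right
      exact Sylow.ext (Q.3 P.2 (le_sup_left.trans h1.le)).symm
    obtain ⟨u, huP, hu⟩ : ∃ u : G, u ∈ (P : Subgroup G) ∧ hom G u ≠ 1 := by
      by_contra hc
      push Not at hc
      obtain ⟨Q, hQ⟩ : ∃ Q : Sylow 17 G, Q ≠ P := by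
        haveI : Nontrivial (Sylow 17 G) := Finite.one_lt_card_iff_nontrivial.mp
          (by rw [(seventeen h).2]; norm_num)
        exact exists_ne P
      refine hQ (hne Q fun x hx => Sylow.smul_eq_iff_mem_normalizer.mp ?_)
      have := congrArg (fun σ : Equiv.Perm _ => σ Q) (hc x hx)
      simpa using this
    set P' := (P : Subgroup G).map (hom G).rangeRestrict
    obtain ⟨n, hn⟩ := (IsPGroup.iff_card).mp (P.2.map (hom G).rangeRestrict)
    have hn1 : n ≤ 1 := by
      by_contra hc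
      have h1 : 17 ^ 2 ∣ Nat.card (Equiv.Perm (Sylow 17 G)) :=
        ((pow_dvd_pow 17 (by omega : 2 ≤ n)).trans (hn ▸ dvd_refl _)).trans
          ((card_subgroup_dvd_card P').trans (card_subgroup_dvd_card _))
      rw [Nat.card_perm, (seventeen h).2] at h1
      norm_num [Nat.factorial] at h1
    set v := (hom G).rangeRestrict u with hv
    have hv1 : v ≠ 1 := fun e => hu (congrArg Subtype.val e)
    have hvP : v ∈ P' := mem_map_of_mem _ huP
    have hordv : orderOf v = 17 := by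
      have h1 := Subgroup.orderOf_dvd_natCard P' hvP
      rw [hn] at h1
      obtain ⟨i, hi, hi'⟩ := (Nat.dvd_prime_pow (by norm_num : Nat.Prime 17)).mp h1
      rcases Nat.eq_zero_or_pos i with rfl | hpos
      · rw [pow_zero, orderOf_eq_one_iff] at hi'; exact absurd hi' hv1
      · rw [hi', show i = 1 by omega, pow_one]
    have hzp : zpowers v = P' := Subgroup.eq_of_le_of_card_ge (zpowers_le.mpr hvP) (by
      rw [Nat.card_zpowers, hordv, hn]
      calc 17 ^ n ≤ 17 ^ 1 := Nat.pow_le_pow_right (by norm_num) hn1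
        _ = 17 := pow_one 17)
    have hfixP : ∀ x ∈ (P : Subgroup G), x • P = P := fun x hx =>
      Sylow.smul_eq_iff_mem_normalizer.mpr (le_normalizer hx)
    refine ⟨v, hordv, hfixP u huP, fun R hR => hne R fun x hx =>
      Sylow.smul_eq_iff_mem_normalizer.mp ?_⟩
    obtain ⟨k, hk⟩ : (hom G).rangeRestrict x ∈ zpowers v := hzp ▸ mem_map_of_mem _ hx
    have h2 : (v ^ k) • R = R := (MulAction.stabilizer _ R).zpow_mem hR k
    simp only at hk
    rw [hk] at h2
    exact h2

/-- A normal Sylow subgroup of the kernel is centralised by the other primes. -/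
theorem commute_of_inf {K S : Subgroup G} [K.Normal] (hKS : K ≤ normalizer (S : Set G))
    {k s : G} (hk : k ∈ K) (hs : s ∈ S) : k * s * k⁻¹ * s⁻¹ ∈ K ⊓ S := by
  refine Subgroup.mem_inf.mpr ⟨?_, mul_mem ((mem_normalizer_iff.mp (hKS hk) s).mp hs) (inv_mem hs)⟩
  rw [mul_assoc, mul_assoc, ← mul_assoc s]
  exact mul_mem hk (Subgroup.Normal.conj_mem inferInstance _ (inv_mem hk) s)

theorem inf_le_of_normalizer {K : Subgroup G} {r : ℕ} [Fact r.Prime]
    (hK : ∀ S : Sylow r G, K ≤ normalizer ((S : Subgroup G) : Set G)) (S T : Sylow r G) :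
    K ⊓ (T : Subgroup G) ≤ K ⊓ (S : Subgroup G) := by
  refine le_inf inf_le_left ?_
  have hpg : IsPGroup r ((S ⊔ (K ⊓ (T : Subgroup G)) : Subgroup G)) :=
    S.2.to_sup_of_normal_left' (T.2.to_le inf_le_right) (inf_le_left.trans (hK S))
  have h1 : ((S : Subgroup G) ⊔ (K ⊓ (T : Subgroup G))) = S := S.3 hpg le_sup_left
  exact le_sup_right.trans h1.le

theorem inf_normal {K : Subgroup G} [K.Normal] {r : ℕ} [Fact r.Prime]
    (hK : ∀ S : Sylow r G, K ≤ normalizer ((S : Subgroup G) : Set G)) (S : Sylow r G) :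
    (K ⊓ (S : Subgroup G)).Normal := by
  refine ⟨fun n hn g => ?_⟩
  refine inf_le_of_normalizer hK S (g • S) (Subgroup.mem_inf.mpr
    ⟨Subgroup.Normal.conj_mem inferInstance _ (Subgroup.mem_inf.mp hn).1 g, ?_⟩)
  rw [Sylow.coe_subgroup_smul, Subgroup.mem_pointwise_smul_iff_inv_smul_mem]
  simpa [MulAut.smul_def, mul_assoc] using (Subgroup.mem_inf.mp hn).2

/-- No other primes divide the order. -/
theorem prime_small (h : Numbers G) (hH : Nat.card (hom G).range ∣ 4896) {r : ℕ} [hr : Fact r.Prime]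
    (hd : r ∣ Nat.card G) : r = 2 ∨ r = 3 ∨ r = 17 := by
  haveI : (hom G).ker.Normal := inferInstance
  by_contra hc
  push Not at hc
  obtain ⟨hr519, hn⟩ : (r = 5 ∨ r = 19) ∧ (Nat.card (Sylow r G) = 136 ∧ r = 5 ∨
      Nat.card (Sylow r G) = 153 ∧ r = 19) := by
    rcases prime_cases h hd with ⟨e, -⟩ | ⟨e | e, en⟩ | ⟨e | e, en⟩
    · exact absurd e hc.2.2
    · exact absurd e hc.2.1
    · exact ⟨Or.inl e, Or.inl ⟨en, e⟩⟩
    · exact absurd e hc.1
    · exact ⟨Or.inr e, Or.inr ⟨en, e⟩⟩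
  obtain ⟨S⟩ : Nonempty (Sylow r G) := inferInstance
  obtain ⟨P⟩ : Nonempty (Sylow 17 G) := inferInstance
  set K := (hom G).ker
  have hKn : ∀ Q : Sylow 17 G, K ≤ normalizer ((Q : Subgroup G) : Set G) := fun Q k hk =>
    Sylow.smul_eq_iff_mem_normalizer.mp
      (by simpa using congrArg (fun σ : Equiv.Perm _ => σ Q) (MonoidHom.mem_ker.mp hk))
  -- the Sylow subgroup lies in the kernel
  have hSK : (S : Subgroup G) ≤ K := by
    intro s hs
    obtain ⟨k, hk⟩ := S.2 ⟨s, hs⟩
    rw [MonoidHom.mem_ker, ← orderOf_eq_one_iff]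
    have h1 : orderOf (hom G s) ∣ r ^ k := by
      refine (orderOf_map_dvd _ _).trans (orderOf_dvd_of_pow_eq_one ?_)
      simpa using congrArg Subtype.val hk
    have h2 : orderOf (hom G s) ∣ 4896 := by
      have h3 := orderOf_dvd_natCard ((hom G).rangeRestrict s)
      rw [← Subgroup.orderOf_coe] at h3
      exact h3.trans hH
    have h4 : Nat.Coprime (r ^ k) 4896 := Nat.Coprime.pow_left k
      (hr.out.coprime_iff_not_dvd.mpr (by rcases hr519 with e | e <;> subst e <;> norm_num))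
    exact Nat.eq_one_of_dvd_coprimes h4 h1 h2
  set R := K ⊓ (P : Subgroup G)
  haveI hRN : R.Normal := inf_normal hKn P
  have hRp : IsPGroup 17 R := P.2.to_le inf_le_right
  set J := R ⊔ (S : Subgroup G)
  have hSJ : (S : Subgroup G) ≤ J := le_sup_right
  set SJ := S.subtype hSJ
  obtain ⟨i, hi⟩ := IsPGroup.iff_card.mp hRp
  obtain ⟨j, hj⟩ := IsPGroup.iff_card.mp S.2
  have hJdvd : Nat.card J ∣ 17 ^ i * r ^ j := by
    rw [← hi, ← hj, ← Subgroup.card_mul_index (R.subgroupOf J),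
      Nat.card_congr (Subgroup.subgroupOfEquivOfLe (le_sup_left : R ≤ J)).toEquiv,
      show (R.subgroupOf J).index = R.relIndex J from rfl, Subgroup.relIndex_sup_left]
    exact mul_dvd_mul_left _ (Subgroup.relIndex_dvd_card _ _)
  have hnJ : Nat.card (Sylow r J) = 1 := by
    have h1 : Nat.card (Sylow r J) ∣ (SJ : Subgroup J).index := SJ.card_dvd_index
    have h2 : (SJ : Subgroup J).index * r ^ j ∣ 17 ^ i * r ^ j := by
      refine dvd_trans (dvd_of_eq ?_) hJdvd
      rw [← hj, ← Nat.card_congr (Subgroup.subgroupOfEquivOfLe hSJ).toEquiv, mul_comm,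
        ← Sylow.coe_subtype]
      exact Subgroup.card_mul_index _
    have h3 : Nat.card (Sylow r J) ∣ 17 ^ i :=
      h1.trans (Nat.dvd_of_mul_dvd_mul_right (pow_pos hr.out.pos j) h2)
    obtain ⟨m, -, hm⟩ := (Nat.dvd_prime_pow (by norm_num : Nat.Prime 17)).mp h3
    have hle := card_sylow_subgroup_le (r := r) J
    have hmod := card_sylow_modEq_one r J
    rw [hm] at hle hmod ⊢
    have hm1 : m ≤ 1 := by
      by_contra hc'
      have : 17 ^ 2 ≤ 17 ^ m := Nat.pow_le_pow_right (by norm_num) (by omega)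
      rcases hn with ⟨e, -⟩ | ⟨e, -⟩ <;> omega
    interval_cases m
    · norm_num
    · rcases hr519 with e | e <;> subst e <;> norm_num [Nat.ModEq] at hmod
  haveI : Subsingleton (Sylow r J) := (Nat.card_eq_one_iff_unique.mp hnJ).1
  have hPS : (P : Subgroup G) ≤ normalizer ((S : Subgroup G) : Set G) := by
    intro x hx
    refine Sylow.smul_eq_iff_mem_normalizer.mp ?_
    have hle : ((x • S : Sylow r G) : Subgroup G) ≤ J := by
      intro y hy
      rw [Sylow.coe_subgroup_smul, Subgroup.mem_pointwise_smul_iff_inv_smul_mem] at hy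
      obtain ⟨s, hs, rfl⟩ : ∃ s ∈ (S : Subgroup G), x * s * x⁻¹ = y :=
        ⟨_, hy, by simp [MulAut.smul_def, mul_assoc]⟩
      have h1 := commute_of_inf (S := (P : Subgroup G)) (hKn P) (hSK hs) hx
      have h2 : x * s * x⁻¹ = (s * x * s⁻¹ * x⁻¹)⁻¹ * s := by group
      rw [h2]
      exact mul_mem (inv_mem (le_sup_left (α := Subgroup G) h1)) (hSJ hs)
    exact Sylow.subtype_injective (Subsingleton.elim ((x • S).subtype hle) SJ)
  have h17 : (P : Subgroup G).index ∣ Nat.card G := Subgroup.index_dvd_card _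
  have hdvd : Nat.card (Sylow r G) ∣ (P : Subgroup G).index := by
    rw [S.card_eq_index_normalizer]
    exact Subgroup.index_dvd_of_le hPS
  have h17n : (17 : ℕ) ∣ Nat.card (Sylow r G) := by rcases hn with ⟨e, -⟩ | ⟨e, -⟩ <;> rw [e] <;> norm_num
  exact P.not_dvd_index (h17n.trans hdvd)

/-- The action is faithful. -/
theorem injective (hZ : center G = ⊥) (h : Numbers G) {F : Type*} [Field F] [Fintype F]
    (hF : Fintype.card F = 17) : Function.Injective (hom G) := by
  haveI : Fact (Nat.Prime 2) := ⟨Nat.prime_two⟩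
  haveI : Fact (Nat.Prime 3) := ⟨Nat.prime_three⟩
  set f := (hom G).rangeRestrict with hf
  have hfs : Function.Surjective f := (hom G).rangeRestrict_surjective
  obtain ⟨h2, h3, hcases⟩ := (act h).structure_cases hF
  have hcard : Nat.card (hom G).range ∣ 4896 := by
    rcases hcases with ⟨e, -⟩ | e <;> rw [e]
    norm_num
  have hdvd : ∀ q : ℕ, q ∣ Nat.card (hom G).range → q ∣ Nat.card G := fun q hq =>
    hq.trans (Subgroup.card_range_dvd _)
  have hd2 : 2 ∣ Nat.card G := hdvd 2 (by rcases hcases with ⟨e, -⟩ | e <;> rw [e] <;> norm_num)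
  have hd3 : 3 ∣ Nat.card G := hdvd 3 (by rcases hcases with ⟨e, -⟩ | e <;> rw [e] <;> norm_num)
  rw [← MonoidHom.ker_eq_bot_iff]
  set K := (hom G).ker with hKdef
  have hKf : K = f.ker := (MonoidHom.ker_rangeRestrict _).symm
  have hKn : ∀ (r : ℕ) [Fact r.Prime], (r = 2 ∨ r = 3 ∨ r = 17) →
      ∀ S : Sylow r G, K ≤ normalizer ((S : Subgroup G) : Set G) := by
    intro r _ hr S
    rw [hKf]
    rcases hr with rfl | rfl | rfl
    · refine ker_le_normalizer hfs ?_ S
      rcases prime_cases h hd2 with ⟨e, -⟩ | ⟨e, -⟩ | ⟨-, e⟩ <;> omega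
    · refine ker_le_normalizer hfs ?_ S
      rcases prime_cases h hd3 with ⟨e, -⟩ | ⟨-, e⟩ | ⟨e, -⟩ <;> omega
    · rw [← hKf]
      intro k hk
      exact Sylow.smul_eq_iff_mem_normalizer.mp
        (by simpa using congrArg (fun σ : Equiv.Perm _ => σ S) (MonoidHom.mem_ker.mp hk))
  have hprimes : ∀ q : ℕ, q.Prime → q ∣ Nat.card G → q = 2 ∨ q = 3 ∨ q = 17 := fun q hq hd =>
    haveI := Fact.mk hq
    prime_small h hcard hd
  by_contra hKne
  obtain ⟨k, hk, hk1⟩ : ∃ k ∈ K, k ≠ 1 := by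
    by_contra hc
    push Not at hc
    exact hKne ((eq_bot_iff_forall _).mpr hc)
  -- a prime dividing the order of the kernel
  obtain ⟨r, hr, hrd⟩ := Nat.exists_prime_and_dvd (n := Nat.card K) (fun e => by
    haveI := (Nat.card_eq_one_iff_unique.mp e).1
    exact hk1 (congrArg Subtype.val (Subsingleton.elim (⟨k, hk⟩ : K) 1)))
  haveI := Fact.mk hr
  have hr3 := hprimes r hr (hrd.trans (Subgroup.card_subgroup_dvd_card _))
  obtain ⟨S⟩ : Nonempty (Sylow r G) := inferInstance
  set R := K ⊓ (S : Subgroup G) with hR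
  haveI hRN : R.Normal := inf_normal (hKn r hr3) S
  -- it is not trivial
  obtain ⟨z, hz⟩ := exists_prime_orderOf_dvd_card' (G := K) r hrd
  have hzR : (z : G) ∈ R := by
    have hzp : IsPGroup r (zpowers (z : G)) := IsPGroup.of_card (n := 1)
      (by rw [Nat.card_zpowers, Subgroup.orderOf_coe, hz, pow_one])
    obtain ⟨T, hT⟩ := hzp.exists_le_sylow
    exact inf_le_of_normalizer (hKn r hr3) S T
      (Subgroup.mem_inf.mpr ⟨z.2, hT (mem_zpowers _)⟩)
  -- a non-trivial element of it fixed by the Sylow subgroup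
  obtain ⟨w, hwR, hw1, hwS⟩ : ∃ w ∈ R, w ≠ 1 ∧ ∀ s ∈ (S : Subgroup G), Commute w s := by
    haveI : (R.subgroupOf (S : Subgroup G)).Normal := Subgroup.normal_subgroupOf
    have hne : R.subgroupOf (S : Subgroup G) ≠ ⊥ := fun e => by
      have h' : (⟨(z : G), (Subgroup.mem_inf.mp hzR).2⟩ : (S : Subgroup G)) ∈
          R.subgroupOf (S : Subgroup G) := hzR
      rw [e, mem_bot] at h'
      have : (z : G) = 1 := congrArg Subtype.val h'
      rw [← Subgroup.orderOf_coe, this, orderOf_one] at hz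
      exact hr.ne_one hz.symm
    obtain ⟨w, hw, hw1⟩ := Cfsg.Agent.Blocks.Eighteen.exists_central S.2 (R.subgroupOf (S : Subgroup G)) hne
    obtain ⟨hwR, hwc⟩ := hw
    exact ⟨(w : G), hwR, fun e => hw1 (Subtype.ext e), fun s hs =>
      (congrArg Subtype.val (Subgroup.mem_center_iff.mp hwc ⟨s, hs⟩)).symm⟩
  -- it is central
  refine hw1 ((Subgroup.mem_bot).mp (hZ ▸ Subgroup.mem_center_iff.mpr fun g => ?_))
  have hC : centralizer ({w} : Set G) = ⊤ := by
    refine Subgroup.index_eq_one.mp (Nat.eq_one_iff_not_exists_prime_dvd.mpr fun q hq hqd => ?_)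
    haveI := Fact.mk hq
    obtain ⟨T, hT⟩ : ∃ T : Sylow q G, (T : Subgroup G) ≤ centralizer ({w} : Set G) := by
      by_cases hqr : q = r
      · subst hqr
        exact ⟨S, fun t ht => mem_centralizer_singleton_iff.mpr (hwS t ht).eq.symm⟩
      · obtain ⟨T⟩ : Nonempty (Sylow q G) := inferInstance
        refine ⟨T, ?_⟩
        intro t ht
        have hmem := commute_of_inf (hKn q (hprimes q hq (hqd.trans (Subgroup.index_dvd_card _))) T)
          (Subgroup.mem_inf.mp hwR).1 ht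
        have h1 : w * t * w⁻¹ * t⁻¹ ∈ R := by
          rw [mul_assoc, mul_assoc, ← mul_assoc t]
          exact mul_mem hwR (hRN.conj_mem _ (inv_mem hwR) t)
        have h2 : R ⊓ (T : Subgroup G) = ⊥ := IsPGroup.disjoint_of_ne r q (Ne.symm hqr) _ _
          (S.2.to_le inf_le_right) T.2 |>.eq_bot
        have h3 : w * t * w⁻¹ * t⁻¹ ∈ (⊥ : Subgroup G) :=
          h2 ▸ Subgroup.mem_inf.mpr ⟨h1, (Subgroup.mem_inf.mp hmem).2⟩
        rw [mem_bot, mul_inv_eq_one, mul_inv_eq_iff_eq_mul] at h3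
        exact mem_centralizer_singleton_iff.mpr h3.symm
    exact T.not_dvd_index (hqd.trans (Subgroup.index_dvd_of_le hT))
  exact mem_centralizer_singleton_iff.mp (hC ▸ mem_top g)

end Cfsg.Agent.Blocks.Eighteen
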