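import Cfsg.Agent.Lib.Blocks.SylowEighteen.Basic
import Cfsg.Agent.Lib.SL2.SylowTwo
import Cfsg.Agent.Lib.SL2.Tori

/-!
# Sylow numbers of `PSL(2, 17)`
-/

set_option autoImplicit false
set_option linter.unusedSectionVars false

namespace Cfsg.Agent.Blocks.Eighteen

open SL2

variable {F : Type*} [Field F] [Fintype F]

local notation "G" => Matrix.SpecialLinearGroup (Fin 2) F

theorem card_sylow_sl (hF : Fintype.card F = 17) :
    Nat.card (Sylow 2 G) = 153 ∧ Nat.card (Sylow 3 G) = 136 := by
  haveI : Fact (Nat.Prime 2) := ⟨Nat.prime_two⟩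
  haveI : Fact (Nat.Prime 3) := ⟨Nat.prime_three⟩
  have hodd : Odd (Fintype.card F) := by rw [hF]; decide
  have hG : Nat.card G = 4896 := by rw [card_G, hF]
  constructor
  · obtain ⟨S⟩ : Nonempty (Sylow 2 G) := inferInstance
    have hN := (normalizer_sylow_two hodd S).1 (Or.inl (by rw [hF]))
    have hS : Nat.card (S : Subgroup G) = 32 := by
      rw [S.card_eq_multiplicity, hG, show (4896 : ℕ) = 2 ^ 5 * 153 by norm_num,
        Nat.factorization_mul (by norm_num) (by norm_num), Finsupp.coe_add, Pi.add_apply,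
        Nat.prime_two.factorization_pow, Finsupp.single_eq_same,
        Nat.factorization_eq_zero_of_not_dvd (show ¬ 2 ∣ 153 by norm_num)]
      norm_num
    rw [Sylow.card_eq_index_normalizer S]
    change (Subgroup.normalizer ((S : Subgroup G) : Set G)).index = _
    rw [hN]
    have h := Subgroup.card_mul_index (S : Subgroup G)
    rw [hS, hG] at h
    omega
  · obtain ⟨S⟩ : Nonempty (Sylow 3 G) := inferInstance
    obtain ⟨g, ht, hc, -, hN⟩ := sylow_torus hodd (by norm_num : 3 ≠ 2) (n := 18)
      (Or.inr ⟨by rw [hF], by rw [hF]; norm_num⟩) S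
    rw [Sylow.card_eq_index_normalizer S]
    change (Subgroup.normalizer ((S : Subgroup G) : Set G)).index = _
    rw [hN]
    have h := Subgroup.card_mul_index (Subgroup.normalizer (cent g : Set G))
    rw [card_normalizer_cent ht, hc, hG] at h
    omega

/-- The projective group has the same Sylow numbers. -/
theorem card_sylow_psl (hF : Fintype.card F = 17) :
    Nat.card (Sylow 2 (Matrix.ProjectiveSpecialLinearGroup (Fin 2) F)) = 153 ∧
      Nat.card (Sylow 3 (Matrix.ProjectiveSpecialLinearGroup (Fin 2) F)) = 136 := by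
  haveI : Fact (Nat.Prime 2) := ⟨Nat.prime_two⟩
  haveI : Fact (Nat.Prime 3) := ⟨Nat.prime_three⟩
  set f := QuotientGroup.mk' (Subgroup.center G)
  have hf : Function.Surjective f := QuotientGroup.mk'_surjective _
  have hk : f.ker ≤ Subgroup.center G := (QuotientGroup.ker_mk' _).le
  obtain ⟨h2, h3⟩ := card_sylow_sl hF
  exact ⟨(card_sylow_of_central hf hk).trans h2, (card_sylow_of_central hf hk).trans h3⟩

/-- Lower bounds for a group containing a copy of `PSL(2, 17)`. -/
theorem card_sylow_of_embedded (hF : Fintype.card F = 17) {H : Type*} [Group H] [Finite H]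
    {N : Subgroup H} (e : N ≃* Matrix.ProjectiveSpecialLinearGroup (Fin 2) F) :
    153 ≤ Nat.card (Sylow 2 H) ∧ 136 ≤ Nat.card (Sylow 3 H) := by
  haveI : Fact (Nat.Prime 2) := ⟨Nat.prime_two⟩
  haveI : Fact (Nat.Prime 3) := ⟨Nat.prime_three⟩
  obtain ⟨h2, h3⟩ := card_sylow_psl hF
  exact ⟨(h2.symm.le.trans (card_sylow_map (f := e.toMonoidHom) e.surjective)).trans
      (card_sylow_subgroup_le N),
    (h3.symm.le.trans (card_sylow_map (f := e.toMonoidHom) e.surjective)).trans
      (card_sylow_subgroup_le N)⟩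

end Cfsg.Agent.Blocks.Eighteen
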