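import Cfsg.Agent.Lib.Blocks.SylowEighteen.Action

/-!
# The structure of a group acting on eighteen Sylow 17-subgroups
-/

set_option autoImplicit false
set_option linter.unusedSectionVars false

namespace Cfsg.Agent.Blocks.Eighteen

open Subgroup

universe u

namespace Act

variable {H : Type u} {α : Type*} [Group H] [Finite H] [Finite α] [MulAction H α] (A : Act H α)

include A

theorem conj_mem {x g : H} (hx : orderOf x = 17) {a : α} (hxa : x • a = a)
    (hfix : ∀ b : α, x • b = b → b = a) (hg : g • a = a) : g * x * g⁻¹ ∈ zpowers x := by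
  refine A.mem_zpowers_of_fix hx ?_ hxa hfix ?_
  · rw [← hx]
    exact (MulEquiv.orderOf_eq (MulAut.conj g) x)
  · rw [mul_smul, mul_smul, show g⁻¹ • a = a from inv_smul_eq_iff.mpr hg.symm, hxa, hg]

theorem fix_of_mem {x : H} {a : α} (hxa : x • a = a) {y : H} (hy : y ∈ zpowers x) : y • a = a := by
  obtain ⟨k, rfl⟩ := hy
  exact (MulAction.stabilizer H a).zpow_mem (MulAction.mem_stabilizer_iff.mpr hxa) _

theorem normalizer_eq {x : H} (hx : orderOf x = 17) {a : α} (hxa : x • a = a)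
    (hfix : ∀ b : α, x • b = b → b = a) :
    normalizer ((zpowers x : Subgroup H) : Set H) = MulAction.stabilizer H a := by
  ext g
  rw [Subgroup.mem_normalizer_iff, MulAction.mem_stabilizer_iff]
  constructor
  · intro h
    have h1 : (g * x * g⁻¹) • a = a := A.fix_of_mem hxa ((h x).mp (mem_zpowers _))
    rw [mul_smul, mul_smul, smul_eq_iff_eq_inv_smul] at h1
    have h2 := hfix _ h1
    rwa [inv_smul_eq_iff, eq_comm] at h2
  · intro hg y
    have key : ∀ u : H, u • a = a → ∀ z ∈ zpowers x, u * z * u⁻¹ ∈ zpowers x := by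
      rintro u hu z ⟨k, rfl⟩
      have := (zpowers x).zpow_mem (A.conj_mem hx hxa hfix hu) k
      rwa [conj_zpow] at this
    refine ⟨key g hg y, fun h => ?_⟩
    have := key g⁻¹ (inv_smul_eq_iff.mpr hg.symm) _ h
    rwa [show g⁻¹ * (g * y * g⁻¹) * g⁻¹⁻¹ = y by group] at this

theorem eq_of_commute {x g : H} (hx : orderOf x = 17) {a b : α} (hxa : x • a = a)
    (hfix : ∀ c : α, x • c = c → c = a) (hga : g • a = a) (hb : b ≠ a) (hgb : g • b = b)
    (hc : Commute g x) : g = 1 := by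
  refine A.faithful g fun c => ?_
  by_cases hca : c = a
  · rw [hca, hga]
  · obtain ⟨k, rfl⟩ := A.orbit hx hxa hfix hb hca
    rw [← mul_smul, (hc.pow_right k).eq, mul_smul, hgb]

theorem centralizer_eq {x : H} (hx : orderOf x = 17) {a : α} (hxa : x • a = a)
    (hfix : ∀ b : α, x • b = b → b = a) : centralizer ({x} : Set H) = zpowers x := by
  refine le_antisymm (fun g hg => ?_) (zpowers_le.mpr (mem_centralizer_singleton_iff.mpr rfl))
  have hc : Commute g x := mem_centralizer_singleton_iff.mp hg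
  have hga : g • a = a := hfix _ (by rw [← mul_smul, ← hc.eq, mul_smul, hxa])
  obtain ⟨b, hb⟩ := A.exists_two a
  have hgb : g • b ≠ a := fun h => hb (smul_left_cancel g (h.trans hga.symm))
  obtain ⟨k, hk⟩ := A.orbit hx hxa hfix hb hgb
  have h1 : (x ^ k)⁻¹ * g = 1 := by
    refine A.eq_of_commute hx hxa hfix ?_ hb ?_ ?_
    · rw [mul_smul, hga, inv_smul_eq_iff, A.fix_of_mem hxa (pow_mem (mem_zpowers x) k)]
    · rw [mul_smul, inv_smul_eq_iff, hk]
    · exact ((Commute.refl x).pow_left k).inv_left.mul_left hc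
  rw [inv_mul_eq_one] at h1
  rw [← h1]
  exact pow_mem (mem_zpowers x) k

theorem card_stab_dvd (a : α) :
    17 ∣ Nat.card (MulAction.stabilizer H a) ∧ Nat.card (MulAction.stabilizer H a) ∣ 17 * 16 := by
  obtain ⟨x, hx, hxa, hfix⟩ := A.pts a
  refine ⟨hx ▸ Subgroup.orderOf_dvd_natCard _ (MulAction.mem_stabilizer_iff.mpr hxa), ?_⟩
  rw [← A.normalizer_eq hx hxa hfix]
  set f := normalizerMonoidHom (zpowers x)
  have h1 := Subgroup.card_eq_card_quotient_mul_card_subgroup f.ker
  have h2 : Nat.card f.ker ∣ 17 := by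
    have hle : f.ker.map (normalizer ((zpowers x : Subgroup H) : Set H)).subtype ≤ zpowers x := by
      rintro g ⟨g', hg', rfl⟩
      refine (A.centralizer_eq hx hxa hfix).le ?_
      rw [normalizerMonoidHom_ker] at hg'
      exact centralizer_le (Set.singleton_subset_iff.mpr (mem_zpowers x)) hg'
    have h3 := Subgroup.card_dvd_of_le hle
    rwa [Nat.card_congr (Subgroup.equivMapOfInjective _ _ (subtype_injective _)).toEquiv.symm,
      Nat.card_zpowers, hx] at h3
  have h3 : Nat.card (_ ⧸ f.ker) ∣ 16 := by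
    rw [Nat.card_congr (QuotientGroup.quotientKerEquivRange f).toEquiv]
    refine (Subgroup.card_subgroup_dvd_card _).trans ?_
    rw [Nat.card_congr (IsCyclic.mulAutMulEquiv (zpowers x)).toEquiv, Nat.card_zpowers, hx,
      Nat.card_eq_fintype_card, ZMod.card_units_eq_totient, Nat.totient_prime (by norm_num)]
  rw [h1, mul_comm 17 16]
  exact mul_dvd_mul h3 h2

theorem card_eq (a : α) : Nat.card H = 18 * Nat.card (MulAction.stabilizer H a) := by
  haveI : MulAction.IsPretransitive H α := ⟨A.transitive⟩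
  rw [← Subgroup.index_mul_card (MulAction.stabilizer H a),
    MulAction.index_stabilizer_of_transitive, A.card]

theorem eq_one_of_three {g : H} {a b c : α} (hba : b ≠ a) (hca : c ≠ a) (hbc : b ≠ c)
    (ha : g • a = a) (hb : g • b = b) (hc : g • c = c) : g = 1 := by
  obtain ⟨x, hx, hxa, hfix⟩ := A.pts a
  obtain ⟨k, hk⟩ := A.orbit hx hxa hfix hba hca
  refine A.eq_of_commute hx hxa hfix ha hba hb ?_
  -- the conjugate of `x ^ k` and `x ^ k` agree on `b`
  have hy : (g * x ^ k * g⁻¹) ∈ zpowers x := by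
    rw [← conj_pow]; exact pow_mem (A.conj_mem hx hxa hfix ha) k
  have hyb : (x ^ k)⁻¹ * (g * x ^ k * g⁻¹) = 1 := by
    refine A.eq_of_commute hx hxa hfix ?_ hba ?_ ?_
    · exact A.fix_of_mem hxa (mul_mem (inv_mem (pow_mem (mem_zpowers x) k)) hy)
    · rw [mul_smul, mul_smul, mul_smul, show g⁻¹ • b = b from inv_smul_eq_iff.mpr hb.symm, hk, hc,
        inv_smul_eq_iff, hk]
    · obtain ⟨m, hm⟩ := mul_mem (inv_mem (pow_mem (mem_zpowers x) k)) hy
      rw [← hm]
      exact (Commute.refl x).zpow_left m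
  have hck : Commute g (x ^ k) := by
    rw [inv_mul_eq_one, eq_mul_inv_iff_mul_eq] at hyb
    exact hyb.symm
  have hk17 : ¬ 17 ∣ k := fun h => by
    obtain ⟨j, rfl⟩ := h
    rw [pow_mul, ← hx, pow_orderOf_eq_one, one_pow, one_smul] at hk
    exact hbc hk
  obtain ⟨m, hm⟩ := exists_pow_eq_self_of_coprime (x := x) (n := k) (by
    rw [hx]; exact ((Fact.out : Nat.Prime 17).coprime_iff_not_dvd.mpr hk17).symm)
  rw [← hm]
  exact hck.pow_right m

theorem mem_of_normal {M : Subgroup H} [M.Normal] (hM : M ≠ ⊥) {y : H} (hy : orderOf y = 17) :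
    y ∈ M := by
  have h17 : 17 ∣ Nat.card M := by
    by_contra hn
    obtain ⟨a⟩ := A.nonempty
    obtain ⟨x, hx, hxa, hfix⟩ := A.pts a
    -- the group is semiregular
    have hsemi : ∀ m ∈ M, m • a = a → m = 1 := by
      intro m hm hma
      have h1 : m * x * m⁻¹ * x⁻¹ ∈ zpowers x :=
        mul_mem (A.conj_mem hx hxa hfix hma) (inv_mem (mem_zpowers x))
      have h2 : m * x * m⁻¹ * x⁻¹ ∈ M := by
        rw [mul_assoc, mul_assoc, ← mul_assoc x]
        exact mul_mem hm (Subgroup.Normal.conj_mem inferInstance _ (inv_mem hm) x)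
      have h3 : zpowers x ⊓ M = ⊥ := by
        refine Subgroup.inf_eq_bot_of_coprime ?_
        rw [Nat.card_zpowers, hx]
        exact (Fact.out : Nat.Prime 17).coprime_iff_not_dvd.mpr hn
      have h4 : m * x * m⁻¹ * x⁻¹ ∈ (⊥ : Subgroup H) := h3 ▸ Subgroup.mem_inf.mpr ⟨h1, h2⟩
      rw [mem_bot, mul_inv_eq_one, mul_inv_eq_iff_eq_mul] at h4
      have hmz : m ∈ zpowers x := by
        rw [← A.centralizer_eq hx hxa hfix, mem_centralizer_singleton_iff]
        exact h4
      have : m ∈ (⊥ : Subgroup H) := h3 ▸ Subgroup.mem_inf.mpr ⟨hmz, hm⟩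
      simpa using this
    obtain ⟨m₀, hm₀, hne⟩ := (M.ne_bot_iff_exists_ne_one).mp hM |> fun ⟨⟨m, hm⟩, h⟩ =>
      (⟨m, hm, fun e => h (Subtype.ext e)⟩ : ∃ m ∈ M, m ≠ 1)
    have hma : m₀ • a ≠ a := fun h => hne (hsemi _ hm₀ h)
    have hconj : ∀ c : α, c ≠ a → ∃ k : ℕ, x ^ k * m₀ * (x ^ k)⁻¹ ∈ M ∧
        (x ^ k * m₀ * (x ^ k)⁻¹) • a = c := by
      intro c hc
      obtain ⟨k, hk⟩ := A.orbit hx hxa hfix hma hc
      refine ⟨k, Subgroup.Normal.conj_mem inferInstance _ hm₀ _, ?_⟩
      rw [mul_smul, mul_smul,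
        show (x ^ k)⁻¹ • a = a from A.fix_of_mem hxa (inv_mem (pow_mem (mem_zpowers x) k)), hk]
    have hall : ∀ m ∈ M, m ≠ 1 → orderOf m = orderOf m₀ := by
      intro m hm hm1
      obtain ⟨k, hkM, hk⟩ := hconj _ (fun h => hm1 (hsemi m hm h))
      have h1 : (x ^ k * m₀ * (x ^ k)⁻¹)⁻¹ * m = 1 :=
        hsemi _ (mul_mem (inv_mem hkM) hm) (by rw [mul_smul, inv_smul_eq_iff, hk])
      rw [inv_mul_eq_one] at h1
      rw [← h1]
      exact MulEquiv.orderOf_eq (MulAut.conj (x ^ k)) m₀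
    have hbij : Function.Bijective fun m : M => (m : H) • a := by
      refine ⟨fun m m' h => ?_, fun c => ?_⟩
      · have : ((m' : H))⁻¹ * (m : H) = 1 :=
          hsemi _ (mul_mem (inv_mem m'.2) m.2) (by rw [mul_smul, inv_smul_eq_iff]; exact h)
        exact Subtype.ext (inv_mul_eq_one.mp this).symm
      · by_cases hc : c = a
        · exact ⟨1, by simp [hc]⟩
        · obtain ⟨k, hkM, hk⟩ := hconj c hc
          exact ⟨⟨_, hkM⟩, hk⟩
    have hcM : Nat.card M = 18 := by rw [Nat.card_eq_of_bijective _ hbij, A.card]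
    haveI : Fact (Nat.Prime 2) := ⟨Nat.prime_two⟩
    haveI : Fact (Nat.Prime 3) := ⟨Nat.prime_three⟩
    obtain ⟨u, hu⟩ := exists_prime_orderOf_dvd_card' (G := M) 2 (by rw [hcM]; norm_num)
    obtain ⟨v, hv⟩ := exists_prime_orderOf_dvd_card' (G := M) 3 (by rw [hcM]; norm_num)
    rw [← Subgroup.orderOf_coe] at hu hv
    have := hall u u.2 (fun e => by rw [e, orderOf_one] at hu; norm_num at hu)
    have := hall v v.2 (fun e => by rw [e, orderOf_one] at hv; norm_num at hv)
    omega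
  obtain ⟨z, hz⟩ := exists_prime_orderOf_dvd_card' (G := M) 17 h17
  rw [← Subgroup.orderOf_coe] at hz
  have hp : ∀ w : H, orderOf w = 17 → IsPGroup 17 (zpowers w) := fun w hw =>
    IsPGroup.of_card (n := 1) (by rw [Nat.card_zpowers, hw, pow_one])
  obtain ⟨S, hS⟩ := (hp _ hz).exists_le_sylow
  obtain ⟨T, hT⟩ := (hp _ hy).exists_le_sylow
  obtain ⟨g, rfl⟩ := MulAction.exists_smul_eq H S T
  have h1 : y ∈ ((g • S : Sylow 17 H) : Subgroup H) := hT (mem_zpowers _)
  rw [Sylow.coe_subgroup_smul, Subgroup.mem_pointwise_smul_iff_inv_smul_mem,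
    A.sylow_eq hz S (hS (mem_zpowers _))] at h1
  have h2 : (MulAut.conj g)⁻¹ • y ∈ M := (zpowers_le.mpr z.2) h1
  have h3 := Subgroup.Normal.conj_mem (inferInstance : M.Normal) _ h2 g
  simpa [MulAut.smul_def, mul_assoc] using h3

/-- The subgroup generated by the elements of order `17`. -/
def core (_A : Act H α) : Subgroup H := closure {g : H | orderOf g = 17}

theorem core_normal : A.core.Normal := by
  refine ⟨fun n hn g => ?_⟩
  induction hn using closure_induction with
  | mem x hx => exact subset_closure ((MulEquiv.orderOf_eq (MulAut.conj g) x).trans hx)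
  | one => simp
  | mul x y _ _ hx hy => simpa [mul_assoc] using mul_mem hx hy
  | inv x _ hx => simpa [mul_assoc] using inv_mem hx

theorem core_act : Act A.core α where
  card := A.card
  faithful g h := Subtype.ext (A.faithful (g : H) h)
  pts a := by
    obtain ⟨x, hx, hxa, hfix⟩ := A.pts a
    exact ⟨⟨x, subset_closure hx⟩, (Subgroup.orderOf_coe _).symm.trans hx, hxa, hfix⟩
  few := (card_sylow_subgroup_le _).trans A.few

theorem core_simple : IsSimpleGroup A.core := by
  obtain ⟨a⟩ := A.nonempty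
  obtain ⟨x, hx, -, -⟩ := A.pts a
  haveI : Nontrivial A.core := ⟨⟨x, subset_closure hx⟩, 1, fun h => by
    have h' : x = 1 := congrArg Subtype.val h
    rw [h', orderOf_one] at hx
    norm_num at hx⟩
  refine ⟨fun M hM => or_iff_not_imp_left.mpr fun hne => ?_⟩
  rw [eq_top_iff]
  rintro ⟨g, hg⟩ -
  induction hg using closure_induction with
  | mem y hy => exact A.core_act.mem_of_normal hne ((Subgroup.orderOf_coe _).symm.trans hy)
  | one => exact one_mem M
  | mul y z hy hz ihy ihz => exact (mul_mem ihy ihz : (⟨y, hy⟩ * ⟨z, hz⟩ : A.core) ∈ M)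
  | inv y hy ihy => exact (inv_mem ihy : (⟨y, hy⟩ : A.core)⁻¹ ∈ M)

theorem not_comm : ¬ IsMulCommutative H := by
  intro h
  obtain ⟨a⟩ := A.nonempty
  obtain ⟨b, hb⟩ := A.exists_two a
  obtain ⟨x, -, hxa, hfix⟩ := A.pts a
  obtain ⟨y, -, hyb, hfixy⟩ := A.pts b
  have hya : y • a = a := hfix _ (by rw [← mul_smul, mul_comm' x y, mul_smul, hxa])
  exact hb (hfixy a hya).symm

theorem card_of_simple [IsSimpleGroup H] : Nat.card H = 2448 := by
  haveI := Fintype.ofFinite H
  obtain ⟨a⟩ := A.nonempty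
  obtain ⟨⟨d, hd⟩, h2⟩ := A.card_stab_dvd a
  rw [hd] at h2
  obtain ⟨i, hi, rfl⟩ := (Nat.dvd_prime_pow Nat.prime_two).mp
    (show d ∣ 2 ^ 4 from Nat.dvd_of_mul_dvd_mul_left (by norm_num) h2)
  have hc : Nat.card H = 17 * 2 ^ (i + 1) * 9 := by rw [A.card_eq a, hd]; ring
  obtain ⟨-, h⟩ := SmallCofactor.classify A.not_comm Nat.prime_two (by norm_num) hc (by norm_num)
  rcases h with ⟨m, F, i1, i2, hF, -, -, ⟨j⟩⟩ | ⟨m, F, i1, i2, hF, hm, -, ⟨j⟩⟩
  · have hcard := RecognizePSL.natCard_PSL2 (F := F) (by rw [hF])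
    rw [hF, ← Nat.card_congr j.toEquiv] at hcard
    omega
  · have hcard := FourTimes.natCard_PSL2_even hF
    rw [← Nat.card_congr j.toEquiv, hc, show 2 ^ m = 16 by omega] at hcard
    omega

/-- The two possibilities. -/
theorem structure_cases {F : Type*} [Field F] [Fintype F] (hF : Fintype.card F = 17) :
    153 ≤ Nat.card (Sylow 2 H) ∧ 136 ≤ Nat.card (Sylow 3 H) ∧
      ((Nat.card H = 2448 ∧ Nonempty (H ≃* Matrix.ProjectiveSpecialLinearGroup (Fin 2) F)) ∨
        Nat.card H = 4896) := by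
  haveI := A.core_simple
  have hN := A.core_act.card_of_simple
  obtain ⟨e⟩ := Cfsg.Agent.S1020.result hN hF
  obtain ⟨h2, h3⟩ := card_sylow_of_embedded hF e
  refine ⟨h2, h3, ?_⟩
  obtain ⟨a⟩ := A.nonempty
  have hd : Nat.card H ∣ 4896 := by
    rw [A.card_eq a, show 4896 = 18 * (17 * 16) by norm_num]
    exact mul_dvd_mul_left _ (A.card_stab_dvd a).2
  obtain ⟨k, hk⟩ : 2448 ∣ Nat.card H := hN ▸ Subgroup.card_subgroup_dvd_card _
  rw [hk] at hd
  have hk2 : k ∣ 2 := Nat.dvd_of_mul_dvd_mul_left (show 0 < 2448 by norm_num) hd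
  rcases (Nat.dvd_prime Nat.prime_two).mp hk2 with rfl | rfl
  · left
    refine ⟨by rw [hk], ?_⟩
    have htop : A.core = ⊤ := Subgroup.eq_top_of_card_eq _ (by rw [hN, hk])
    exact ⟨(Subgroup.topEquiv.symm.trans (MulEquiv.subgroupCongr htop.symm)).trans e⟩
  · right
    rw [hk]

theorem three_transitive (h : Nat.card H = 4896) :
    MulAction.IsMultiplyPretransitive H α 3 ∧
      ∀ x : Fin 3 ↪ α, MulAction.stabilizer H x = ⊥ := by
  classical
  haveI := Fintype.ofFinite H
  haveI := Fintype.ofFinite α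
  have hne : ∀ (e : Fin 3 ↪ α) (i j : Fin 3), i ≠ j → e i ≠ e j := fun e i j hij h' => hij (e.injective h')
  have hsharp : ∀ x : Fin 3 ↪ α, MulAction.stabilizer H x = ⊥ := fun e => by
    rw [eq_bot_iff]
    intro g hg
    rw [mem_bot]
    have hfix : ∀ i, g • e i = e i := fun i => by
      rw [← Function.Embedding.smul_apply, MulAction.mem_stabilizer_iff.mp hg]
    exact A.eq_one_of_three (hne e 1 0 (by decide)) (hne e 2 0 (by decide)) (hne e 1 2 (by decide))
      (hfix 0) (hfix 1) (hfix 2)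
  refine ⟨⟨fun e e' => ?_⟩, hsharp⟩
  have hinj : Function.Injective fun g : H => g • e := fun g g' hgg => by
    have : g'⁻¹ * g ∈ MulAction.stabilizer H e := by
      rw [MulAction.mem_stabilizer_iff, mul_smul, inv_smul_eq_iff]
      exact hgg
    rw [hsharp e, mem_bot, inv_mul_eq_one] at this
    exact this.symm
  have hcard : Fintype.card H = Fintype.card (Fin 3 ↪ α) := by
    rw [Fintype.card_embedding_eq, Fintype.card_fin, ← Nat.card_eq_fintype_card,
      ← Nat.card_eq_fintype_card, h, A.card]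
    norm_num [Nat.descFactorial]
  exact ((Fintype.bijective_iff_injective_and_card _).mpr ⟨hinj, hcard⟩).2 e'

end Act

end Cfsg.Agent.Blocks.Eighteen
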